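import Cfsg.Agent.KM.D3.Alg
import Cfsg.Agent.KM.Deg.Defs

/-!
# DEG, the boxes `BoxExp` and `BoxPow` (helper72)
-/

set_option autoImplicit false

namespace Cfsg.Agent.KM.D3

open Polynomial

theorem boxExp : Deg.BoxExp := fun _ hS _ _ _ _ _ hq hd hM h =>
  (coeff_int hS hq one_pos hd hM fun l j h1 h2 h3 h4 => by rw [one_mul]; exact h l j h1 h2 h3 h4).imp fun _ e => e.symm

theorem mem_ZP_of_bdd {x D : ℚ[X]} (hD : D ∈ ZP) (hD0 : D ≠ 0) (h : ∀ n, 0 < n → D * (x ^ 2) ^ n ∈ ZP) : x ∈ ZP := by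
  classical
  have h0 : ∃ b : ℕ, b ≠ 0 ∧ (b : ℚ[X]) * x ∈ ZP := by
    obtain ⟨b, hb, h1⟩ := exists_den x
    refine ⟨(b * b).natAbs, Int.natAbs_ne_zero.2 (mul_ne_zero hb hb), ?_⟩
    rw [← Int.cast_natCast (R := ℚ[X]) (b * b).natAbs, Int.natAbs_of_nonneg (mul_self_nonneg b), Int.cast_mul, mul_assoc]
    exact ZP.mul_mem (intCast_mem ZP b) h1
  obtain ⟨hb, z, hz⟩ := Nat.find_spec h0
  by_cases h1 : Nat.find h0 = 1
  · exact ⟨z, by rw [hz, h1, Nat.cast_one, one_mul]⟩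
  exfalso
  obtain ⟨l, hl, c, hc⟩ := Nat.exists_prime_and_dvd h1
  obtain ⟨D, rfl⟩ := hD
  simp only [coe_mapRingHom] at hz h hD0
  have hD1 : D ≠ 0 := fun e => hD0 (by rw [e, Polynomial.map_zero])
  have hl' : Prime (C (l : ℤ)) := prime_C_iff.2 (Nat.prime_iff_prime_int.1 hl)
  have hc0 : c ≠ 0 := fun e => hb (by rw [hc, e, mul_zero])
  have h2 : ¬ C (l : ℤ) ∣ z := fun ⟨w, hw⟩ => Nat.find_min h0 (m := c)
    (hc ▸ lt_mul_left (Nat.pos_of_ne_zero hc0) hl.one_lt) ⟨hc0, w, by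
      rw [hw, hc, Polynomial.map_mul, Nat.cast_mul, mul_assoc] at hz
      exact mul_left_cancel₀ (Nat.cast_ne_zero.2 hl.ne_zero) (by simpa using hz)⟩
  set n := D.leadingCoeff.natAbs
  have hn : 0 < n := Int.natAbs_pos.2 (leadingCoeff_ne_zero.2 hD1)
  obtain ⟨w, hw⟩ := h n hn
  have h3 : z ^ (2 * n) * D = C (l : ℤ) ^ (2 * n) * ((c : ℤ[X]) ^ (2 * n) * w) := by
    refine map_injective (Int.castRingHom ℚ) (RingHom.injective_int _) ?_
    simp only [coe_mapRingHom] at hw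
    simp only [Polynomial.map_mul, Polynomial.map_pow, hz, hw, hc, eq_intCast, Int.cast_natCast, Polynomial.map_natCast,
      Nat.cast_mul]
    ring
  have h4 : C (l : ℤ) ^ (2 * n) ∣ D := hl'.pow_dvd_of_dvd_mul_left _ (fun e => h2 (hl'.dvd_of_dvd_pow e)) ⟨_, h3⟩
  rw [← C_pow, C_dvd_iff_dvd_coeff] at h4
  have h5 := Nat.le_of_dvd hn (Int.natAbs_dvd_natAbs.2 (h4 D.natDegree))
  rw [Int.natAbs_pow, Int.natAbs_natCast] at h5
  exact absurd (h5.trans_lt ((Nat.lt_pow_self hl.one_lt).trans_le (Nat.pow_le_pow_right hl.pos (by omega)))) (lt_irrefl _)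

theorem boxPow : Deg.BoxPow := fun _ _ x R hR h i => by
  obtain ⟨D, h1, h2, h3⟩ := bdd_of_sums Finset.univ (fun i => x i ^ 2) hR (fun n _ => by
    obtain ⟨z, hz⟩ := h n
    simp only [← pow_mul]
    exact ⟨z, hz.symm⟩) (Finset.mem_univ i)
  exact (mem_ZP_of_bdd h1 h2 h3).imp fun _ e => e.symm

end Cfsg.Agent.KM.D3
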